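import Cfsg.Agent.Lib.J3Lines.Orbit
import Cfsg.Agent.Lib.J3Lines.Data2

/-!
# The walk through the list number 2, generated by a script
-/

set_option Elab.async false

namespace Cfsg.Agent.Lib.J3Lines

theorem run2_0 : runB D2 43605 12 (1) (acc0 (code D2 0)) = A2_0 := by decide +kernel

theorem ne2_0 : A2_0 ≠ 0 := by decide +kernel

theorem run2_1 : runB D2 43605 12 (1 + 2 ^ 12) (A2_0) = A2_1 := by decide +kernel

theorem ne2_1 : A2_1 ≠ 0 := by decide +kernel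

theorem run2_2 : runB D2 43605 12 (1 + 2 ^ 12 + 2 ^ 12) (A2_1) = A2_2 := by decide +kernel

theorem ne2_2 : A2_2 ≠ 0 := by decide +kernel

theorem run2_3 : runB D2 43605 12 (1 + 2 ^ 12 + 2 ^ 12 + 2 ^ 12) (A2_2) = A2_3 := by decide +kernel

theorem ne2_3 : A2_3 ≠ 0 := by decide +kernel

theorem run2_4 : runB D2 43605 12 (1 + 2 ^ 12 + 2 ^ 12 + 2 ^ 12 + 2 ^ 12) (A2_3) = A2_4 := by decide +kernel

theorem ne2_4 : A2_4 ≠ 0 := by decide +kernel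

theorem run2_5 : runB D2 43605 12 (1 + 2 ^ 12 + 2 ^ 12 + 2 ^ 12 + 2 ^ 12 + 2 ^ 12) (A2_4) = A2_5 := by decide +kernel

theorem ne2_5 : A2_5 ≠ 0 := by decide +kernel

theorem run2_6 : runB D2 43605 12 (1 + 2 ^ 12 + 2 ^ 12 + 2 ^ 12 + 2 ^ 12 + 2 ^ 12 + 2 ^ 12) (A2_5) = A2_6 := by decide +kernel

theorem ne2_6 : A2_6 ≠ 0 := by decide +kernel

theorem run2_7 : runB D2 43605 12 (1 + 2 ^ 12 + 2 ^ 12 + 2 ^ 12 + 2 ^ 12 + 2 ^ 12 + 2 ^ 12 + 2 ^ 12) (A2_6) = A2_7 := by decide +kernel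

theorem ne2_7 : A2_7 ≠ 0 := by decide +kernel

theorem run2_8 : runB D2 43605 12 (1 + 2 ^ 12 + 2 ^ 12 + 2 ^ 12 + 2 ^ 12 + 2 ^ 12 + 2 ^ 12 + 2 ^ 12 + 2 ^ 12) (A2_7) = A2_8 := by decide +kernel

theorem ne2_8 : A2_8 ≠ 0 := by decide +kernel

theorem run2_9 : runB D2 43605 12 (1 + 2 ^ 12 + 2 ^ 12 + 2 ^ 12 + 2 ^ 12 + 2 ^ 12 + 2 ^ 12 + 2 ^ 12 + 2 ^ 12 + 2 ^ 12) (A2_8) = A2_9 := by decide +kernel

theorem ne2_9 : A2_9 ≠ 0 := by decide +kernel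

theorem run2_10 : runB D2 43605 12 (1 + 2 ^ 12 + 2 ^ 12 + 2 ^ 12 + 2 ^ 12 + 2 ^ 12 + 2 ^ 12 + 2 ^ 12 + 2 ^ 12 + 2 ^ 12 + 2 ^ 12) (A2_9) = A2_10 := by decide +kernel

theorem ne2_10 : A2_10 ≠ 0 := by decide +kernel

/-- The walk. -/
theorem tree2 : Tree D2 43605 A2_10 :=
  ((((((((((((Partial.init D2 43605 (by norm_num)).next run2_0 ne2_0).next run2_1 ne2_1).next run2_2 ne2_2).next run2_3 ne2_3).next run2_4 ne2_4).next run2_5 ne2_5).next run2_6 ne2_6).next run2_7 ne2_7).next run2_8 ne2_8).next run2_9 ne2_9).next run2_10 ne2_10).tree (by norm_num)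

/-- The final bit mask. -/
abbrev Y2 : Nat := A2_10

theorem code2_zero : code D2 0 = 5 := by decide +kernel

theorem iso2_0 : allR (isoOK Y2) 16 (0 * 2 ^ 16) = true := by decide +kernel

theorem iso2_1 : allR (isoOK Y2) 16 (1 * 2 ^ 16) = true := by decide +kernel

theorem iso2_2 : allR (isoOK Y2) 16 (2 * 2 ^ 16) = true := by decide +kernel

theorem iso2_3 : allR (isoOK Y2) 16 (3 * 2 ^ 16) = true := by decide +kernel

theorem iso2 : ∀ m, m < 4 → allR (isoOK Y2) 16 (m * 2 ^ 16) = true := by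
  intro m hm
  interval_cases m
  · exact iso2_0
  · exact iso2_1
  · exact iso2_2
  · exact iso2_3

end Cfsg.Agent.Lib.J3Lines
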